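import Cfsg.Agent.H549.RV.E8P11_m3
import Cfsg.Agent.Prune
set_option linter.all false

section
prune_inst 0x7f00000000000000000000000000000000000000000000000000000000000000000000000000000000000000000000000000000000000000000000000000000000000000000000000000000000000000003fffffffffffffffffffffffffffbeffbdffffffff

-- part: H549/RV/E8P13
section
set_option linter.all false

/-!
# `E_8(2)` has no strongly `13`-embedded subgroup (helper549, generated certificate)
-/

set_option autoImplicit false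
set_option maxRecDepth 100000
set_option Elab.async false

namespace Cfsg.Agent.H549.RV.E8P13

open Cfsg Cfsg.Lie Cfsg.Agent.ChevalleyStructure.Elts Cfsg.Agent.H549.RV.E8
open Cfsg.Agent.H818.StrP


def x1 : List ℕ := [166, 68, 109, 153, 126, 169, 130, 77, 152, 148, 51]

def x2 : List ℕ := [0, 11, 26, 22, 0, 15, 37, 78, 238, 78, 37, 15, 0, 22, 26, 11, 120, 120, 239, 3, 102, 30, 21, 22, 36, 238, 36, 22, 21, 30, 102, 3, 239, 120]

def zs0 : List (List ℕ × ℕ × ℕ) := [([0], 1, 0),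
  ([1], 1, 0),
  ([119], 1, 0),
  ([120], 1, 0),
  ([185], 0, 1),
  ([238], 1, 0),
  ([239], 1, 0),
  ([113, 45, 70, 101, 112, 188, 112, 101, 70, 45, 113], 0, 1),
  ([188, 73, 90, 83, 87, 97, 153, 97, 87, 83, 90, 73, 188], 0, 1),
  ([64, 113, 75, 86, 87, 108, 194, 108, 87, 86, 75, 113, 64], 0, 1),
  ([68, 188, 76, 35, 90, 101, 185, 101, 90, 35, 76, 188, 68], 0, 1),
  ([131, 24, 186, 34, 210, 61, 18, 55, 70, 98, 10, 40, 42, 53, 235, 53, 42, 40, 10, 98, 70, 55, 18, 61, 210, 34, 186, 24, 131], 1, 2),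
  ([99, 42, 115, 63, 177, 75, 217, 116, 61, 17, 4, 85, 86, 109, 197, 109, 86, 85, 4, 17, 61, 116, 217, 75, 177, 63, 115, 42, 99], 1, 2),
  ([150, 235, 87, 145, 25, 177, 31, 59, 60, 82, 57, 41, 84, 215, 84, 41, 57, 82, 60, 59, 31, 177, 25, 145, 87, 235, 150], 1, 2)]

def zs1 : List (List ℕ × ℕ × ℕ) := [([184, 92, 159, 16, 135, 106, 203, 107, 39, 0, 9, 16, 26, 110, 218, 110, 26, 16, 9, 0, 39, 107, 203, 106, 135, 16, 159, 92, 184], 1, 2),
  ([106, 139, 137, 61, 30, 176, 23, 25, 8, 4, 43, 67, 68, 70, 233, 70, 68, 67, 43, 4, 8, 25, 23, 176, 30, 61, 137, 139, 106], 1, 2),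
  ([234, 206, 6, 225, 216, 40, 30, 65, 74, 85, 15, 17, 78, 99, 199, 99, 78, 17, 15, 85, 74, 65, 30, 40, 216, 225, 6, 206, 234], 1, 2),
  ([108, 45, 210, 198, 28, 103, 111, 24, 112, 5, 11, 13, 34, 55, 236, 55, 34, 13, 11, 5, 112, 24, 111, 103, 28, 198, 210, 45, 108], 1, 2),
  ([97, 206, 87, 16, 141, 27, 7, 207, 186, 48, 93, 84, 58, 61, 218, 61, 58, 84, 93, 48, 186, 207, 7, 27, 141, 16, 87, 206, 97], 1, 2)]

def zs2 : List (List ℕ × ℕ × ℕ) := [([182, 41, 79, 134, 63, 8, 89, 45, 69, 43, 84, 109, 235, 109, 84, 43, 69, 45, 89, 8, 63, 134, 79, 41, 182], 1, 3),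
  ([233, 153, 183, 83, 220, 104, 25, 61, 18, 99, 94, 96, 157, 96, 94, 99, 18, 61, 25, 104, 220, 83, 183, 153, 233], 1, 3),
  ([143, 33, 59, 107, 104, 114, 76, 98, 37, 42, 23, 59, 93, 239, 93, 59, 23, 42, 37, 98, 76, 114, 104, 107, 59, 33, 143], 1, 3),
  ([195, 208, 68, 172, 156, 7, 107, 17, 53, 3, 49, 102, 232, 102, 49, 3, 53, 17, 107, 7, 156, 172, 68, 208, 195], 1, 3)]

def zs3 : List (List ℕ × ℕ × ℕ) := [([118, 167, 144, 168, 149, 20, 17, 29, 98, 21, 24, 31, 79, 95, 225, 95, 79, 31, 24, 21, 98, 29, 17, 20, 149, 168, 144, 167, 118], 1, 3),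
  ([218, 163, 73, 150, 210, 83, 17, 35, 72, 113, 59, 81, 110, 119, 201, 119, 110, 81, 59, 113, 72, 35, 17, 83, 210, 150, 73, 163, 218], 1, 3),
  ([92, 184, 44, 79, 103, 24, 31, 33, 95, 49, 9, 11, 56, 71, 239, 71, 56, 11, 9, 49, 95, 33, 31, 24, 103, 79, 44, 184, 92], 1, 3),
  ([107, 44, 201, 59, 117, 166, 53, 32, 74, 92, 2, 31, 41, 86, 235, 86, 41, 31, 2, 92, 74, 32, 53, 166, 117, 59, 201, 44, 107], 1, 3)]

def ds0 : List (List ℕ × ℕ) := [([251, 120, 251, 120, 250, 251, 120, 251, 120, 250, 185, 251, 120, 251, 120, 250, 251, 120, 251, 120, 250, 185, 0, 251, 120, 251, 120, 250, 251, 120, 251, 120, 250, 185, 251, 120, 251, 120, 250, 251, 120, 251, 120, 250, 185, 0], 27),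
  ([252, 120, 252, 120, 249, 252, 120, 252, 120, 249, 185, 252, 120, 252, 120, 249, 252, 120, 252, 120, 249, 185], 192),
  ([253, 0, 253, 0, 185, 253, 0, 253, 0, 185, 120, 253, 0, 253, 0, 185, 253, 0, 253, 0, 185, 120], 111)]

def ds1 : List (List ℕ × ℕ) := [([254, 120, 254, 120, 250, 254, 120, 254, 120, 250, 185, 254, 120, 254, 120, 250, 254, 120, 254, 120, 250, 185, 0, 254, 120, 254, 120, 250, 254, 120, 254, 120, 250, 185, 254, 120, 254, 120, 250, 254, 120, 254, 120, 250, 185, 0], 21),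
  ([255, 192, 255, 192, 238, 255, 192, 255, 192, 238, 27, 255, 192, 255, 192, 238, 255, 192, 255, 192, 238, 27], 138),
  ([247, 256, 21, 256, 21, 1, 256, 21, 256, 21, 1, 247], 22),
  ([257, 22, 257, 22, 119, 257, 22, 257, 22, 119, 192, 257, 22, 257, 22, 119, 257, 22, 257, 22, 119, 192], 163)]

def ds2 : List (List ℕ × ℕ) := [([248, 258, 138, 258, 138, 185, 258, 138, 258, 138, 185, 248], 69),
  ([259, 163, 259, 163, 1, 259, 163, 259, 163, 1, 239, 259, 163, 259, 163, 1, 259, 163, 259, 163, 1, 239], 173),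
  ([260, 238, 260, 238, 138, 260, 238, 260, 238, 138, 120, 260, 238, 260, 238, 138, 260, 238, 260, 238, 138, 120], 201),
  ([261, 1, 261, 1, 69, 261, 1, 261, 1, 69, 119, 261, 1, 261, 1, 69, 261, 1, 261, 1, 69, 119], 28),
  ([262, 238, 262, 238, 192, 262, 238, 262, 238, 192, 22, 262, 238, 262, 238, 192, 262, 238, 262, 238, 192, 22], 109),
  ([263, 201, 263, 201, 238, 263, 201, 263, 201, 238, 69, 263, 201, 263, 201, 238, 263, 201, 263, 201, 238, 69], 224)]

def ds3 : List (List ℕ × ℕ) := [([264, 224, 264, 224, 111, 264, 224, 264, 224, 111, 173, 264, 224, 264, 224, 111, 264, 224, 264, 224, 111, 173], 206),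
  ([265, 109, 265, 109, 119, 265, 109, 265, 109, 119, 206, 265, 109, 265, 109, 119, 265, 109, 265, 109, 119, 206], 212),
  ([266, 111, 266, 111, 0, 266, 111, 266, 111, 0, 173, 266, 111, 266, 111, 0, 266, 111, 266, 111, 0, 173], 100)]

def cs0 : List (ℕ × ℕ × ℕ) := [(0, 173, 15), (0, 192, 23), (0, 201, 30), (0, 206, 36), (0, 212, 41), (0, 224, 66), (1, 212, 42), 
  (1, 224, 67), (21, 201, 94), (21, 212, 107), (21, 224, 136), (21, 238, 186), (21, 239, 187), (22, 69, 6), 
  (22, 224, 137), (22, 238, 189), (22, 239, 190), (27, 173, 82), (27, 189, 93), (27, 238, 197), (27, 239, 198), 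
  (28, 42, 2), (28, 100, 16), (28, 109, 24), (28, 120, 29), (28, 173, 83), (28, 190, 95), (28, 192, 96), 
  (28, 201, 98), (28, 206, 112), (28, 212, 121), (28, 239, 199), (69, 15, 3), (69, 36, 9), (69, 41, 12), 
  (69, 42, 13), (69, 100, 50), (69, 107, 61), (69, 109, 65), (69, 173, 125), (69, 189, 139), (69, 190, 140), 
  (69, 206, 155), (69, 212, 161), (100, 12, 7), (100, 61, 39), (100, 65, 44), (100, 66, 46), (100, 93, 78), 
  (100, 95, 80), (100, 98, 89), (100, 119, 99), (100, 121, 101), (100, 137, 115), (100, 138, 118), 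
  (100, 161, 146), (100, 186, 169), (100, 189, 170), (100, 197, 175), (100, 199, 177), (100, 224, 215), 
  (100, 238, 233), (109, 9, 8), (109, 29, 25), (109, 46, 40), (109, 66, 62), (109, 67, 63), (109, 89, 85), 
  (109, 98, 97), (109, 111, 106), (109, 136, 135), (109, 155, 151), (109, 175, 171), (109, 197, 191), 
  (109, 199, 193), (109, 215, 211), (109, 224, 223), (111, 62, 56), (111, 65, 60), (111, 119, 110), 
  (111, 189, 184), (111, 223, 220), (111, 238, 235), (119, 39, 38), (119, 44, 43), (119, 50, 49), 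
  (119, 60, 59), (119, 80, 79), (119, 82, 81), (119, 85, 84), (119, 89, 88), (119, 106, 105), (119, 115, 114), 
  (119, 118, 117), (119, 125, 124), (119, 146, 145), (119, 151, 150), (119, 155, 154), (119, 173, 172), 
  (119, 177, 176), (119, 201, 200), (119, 206, 205), (119, 211, 210), (119, 215, 214), (119, 220, 219), 
  (120, 121, 122), (138, 7, 11), (138, 145, 159), (138, 146, 160), (138, 170, 188), (138, 233, 237), 
  (163, 214, 226), (163, 215, 227), (163, 224, 232), (173, 12, 45), (173, 49, 102), (173, 59, 108), 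
  (173, 88, 162), (173, 98, 168), (173, 154, 209), (173, 159, 213), (173, 197, 229), (173, 200, 230), 
  (173, 219, 234), (185, 7, 37), (185, 145, 207), (185, 146, 208), (185, 161, 222), (192, 49, 123), 
  (192, 88, 166), (201, 2, 32), (201, 3, 34), (201, 7, 53), (201, 12, 70), (201, 41, 126), (201, 43, 127), 
  (201, 45, 129), (201, 49, 132), (201, 79, 165), (201, 99, 178), (201, 101, 180), (201, 102, 182), 
  (201, 110, 194), (201, 112, 196), (201, 121, 202), (201, 124, 203), (201, 145, 218), (201, 176, 231), 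
  (201, 205, 236), (206, 6, 58), (206, 11, 72), (206, 12, 73), (206, 43, 141), (206, 49, 142), (206, 59, 147), 
  (206, 62, 148), (206, 66, 152), (206, 70, 158), (206, 88, 174), (206, 117, 204), (206, 139, 221), 
  (206, 159, 225), (212, 6, 64), (212, 11, 75), (212, 46, 143), (212, 66, 157), (212, 88, 179), (224, 2, 68), 
  (224, 7, 76), (224, 8, 77), (224, 16, 130), (224, 37, 153), (224, 40, 156), (224, 79, 195), (224, 101, 216), 
  (224, 102, 217), (238, 80, 228), (0, 129, 4), (0, 158, 10), (0, 168, 14), (0, 180, 17), (0, 182, 18), 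
  (0, 196, 26), (0, 202, 31), (0, 203, 33), (0, 216, 47), (0, 218, 52), (0, 221, 57), (0, 225, 71), 
  (1, 216, 48), (2, 132, 5), (2, 182, 20), (2, 203, 35), (2, 217, 51), (2, 218, 54), (2, 230, 86), 
  (2, 231, 90), (2, 236, 116), (3, 179, 19), (3, 218, 55), (3, 225, 74), (3, 230, 87), (3, 231, 91), 
  (3, 235, 113), (7, 230, 103), (7, 231, 104), (7, 237, 144), (8, 237, 149), (12, 230, 128), (12, 231, 133), 
  (13, 231, 134), (16, 232, 164), (24, 231, 167), (30, 216, 131), (34, 179, 92), (43, 231, 181), (45, 231, 183)]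

def ls : List (ℕ × ℕ × ℕ × ℕ) := [(0, 1, 0, 0), (1, 0, 2, 2), (1, 2, 0, 0), (1, 3, 0, 0)]

def zs : List (List ℕ × ℕ × ℕ) := zs0 ++ (zs1 ++ (zs2 ++ zs3))

theorem x1p_ok : eqw 240 T (JC.map Prod.snd) (rep 13 x1) [] = true :=
  eqw_of_L ltab (by decide +kernel)

theorem x2p_ok : eqw 240 T (JC.map Prod.snd) (rep 13 x2) [] = true :=
  eqw_of_L ltab (by decide +kernel)

theorem comm_ok : eqw 240 T (JC.map Prod.snd) (x1 ++ x2) (x2 ++ x1) = true :=
  eqw_of_L ltab (by decide +kernel)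

theorem ls_ok : chkL 240 248 T cb pb x1 x2 ls = true := by decide +kernel

theorem zs0_ok : chkZ 240 T (JC.map Prod.snd) x1 x2 zs0 = true :=
  chkZ_of_L ltab (by decide +kernel)

theorem zs1_ok : chkZ 240 T (JC.map Prod.snd) x1 x2 zs1 = true :=
  chkZ_of_L ltab (by decide +kernel)

theorem zs2_ok : chkZ 240 T (JC.map Prod.snd) x1 x2 zs2 = true :=
  chkZ_of_L ltab (by decide +kernel)

theorem zs3_ok : chkZ 240 T (JC.map Prod.snd) x1 x2 zs3 = true :=
  chkZ_of_L ltab (by decide +kernel)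

theorem ds0_ok : chkD 240 T (JC.map Prod.snd) zs ds0 = true :=
  chkD_of_L ltab (by decide +kernel)

theorem ds1_ok : chkD 240 T (JC.map Prod.snd) zs ds1 = true :=
  chkD_of_L ltab (by decide +kernel)

theorem ds2_ok : chkD 240 T (JC.map Prod.snd) zs ds2 = true :=
  chkD_of_L ltab (by decide +kernel)

theorem ds3_ok : chkD 240 T (JC.map Prod.snd) zs ds3 = true :=
  chkD_of_L ltab (by decide +kernel)

theorem cs0_ok : chkC 240 T (JC.map Prod.snd) cs0 = true :=
  chkC_of_L ltab (by decide +kernel)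

theorem light_ok : light 240 zs (ds0 ++ (ds1 ++ (ds2 ++ ds3))) (cs0) ls = true := by decide +kernel

theorem cert : Cert chevE8 hD 13 x1 x2 zs (ds0 ++ (ds1 ++ (ds2 ++ ds3))) (cs0) ls where
  x1p := eqw_of hD tab nroots_eq mem_codes x1p_ok
  x2p := eqw_of hD tab nroots_eq mem_codes x2p_ok
  comm := eqw_of hD tab nroots_eq mem_codes comm_ok
  ls_ok := chkL_spec hD tab nroots_eq rank_eq ls_ok
  zs_ok := List.forall_mem_append.2 ⟨chkZ_spec hD tab nroots_eq mem_codes zs0_ok, List.forall_mem_append.2 ⟨chkZ_spec hD tab nroots_eq mem_codes zs1_ok, List.forall_mem_append.2 ⟨chkZ_spec hD tab nroots_eq mem_codes zs2_ok, chkZ_spec hD tab nroots_eq mem_codes zs3_ok⟩⟩⟩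
  ds_ok := List.forall_mem_append.2 ⟨chkD_spec hD tab nroots_eq mem_codes ds0_ok, List.forall_mem_append.2 ⟨chkD_spec hD tab nroots_eq mem_codes ds1_ok, List.forall_mem_append.2 ⟨chkD_spec hD tab nroots_eq mem_codes ds2_ok, chkD_spec hD tab nroots_eq mem_codes ds3_ok⟩⟩⟩
  cs_ok := chkC_spec hD tab nroots_eq mem_codes cs0_ok
  light_ok := light_ok

/-- **`E_8(2)`, `p = 13`** -/
theorem noSP {F : Type*} [Field F] [Fintype F] (hF : Fintype.card F = 2) : NoSP 13 ↥(chevE8.group F) :=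
  haveI : Fact (Nat.Prime 13) := ⟨by norm_num⟩
  cert.noSP hF

end Cfsg.Agent.H549.RV.E8P13
end

-- part: H549/RV/E8P17
section
set_option linter.all false

/-!
# `E_8(2)` has no strongly `17`-embedded subgroup (helper549, generated certificate)
-/

set_option autoImplicit false
set_option maxRecDepth 100000
set_option Elab.async false

namespace Cfsg.Agent.H549.RV.E8P17

open Cfsg Cfsg.Lie Cfsg.Agent.ChevalleyStructure.Elts Cfsg.Agent.H549.RV.E8
open Cfsg.Agent.H818.StrP


def x1 : List ℕ := [147, 75, 141, 174, 69, 102, 97, 143]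

def x2 : List ℕ := [1, 121, 237, 56, 122, 2, 20, 27, 40, 46, 238, 46, 40, 27, 20, 2, 122, 56]

def zs0 : List (List ℕ × ℕ × ℕ) := [([0], 1, 0),
  ([1], 1, 0),
  ([70], 0, 1),
  ([74], 0, 1),
  ([76], 0, 1),
  ([119], 1, 0),
  ([120], 1, 0),
  ([121], 1, 0),
  ([131], 0, 1),
  ([142], 0, 1),
  ([165], 0, 1),
  ([169], 0, 1),
  ([237], 1, 0),
  ([88, 141, 105, 177, 84, 91, 56, 83, 45, 10, 30, 62, 66, 239, 66, 62, 30, 10, 45, 83, 56, 91, 84, 177, 105, 141, 88], 1, 2),
  ([146, 152, 173, 137, 109, 99, 104, 182, 89, 0, 8, 12, 51, 74, 232, 74, 51, 12, 8, 0, 89, 182, 104, 99, 109, 137, 173, 152, 146], 1, 2),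
  ([214, 122, 178, 30, 132, 94, 58, 8, 37, 79, 92, 3, 39, 50, 60, 238, 60, 50, 39, 3, 92, 79, 37, 8, 58, 94, 132, 30, 178, 122, 214], 1, 2),
  ([7, 237, 3, 179, 4, 228, 8, 77, 20, 32, 26, 28, 79, 112, 237, 112, 79, 28, 26, 32, 20, 77, 8, 228, 4, 179, 3, 237, 7], 1, 2),
  ([191, 40, 17, 45, 174, 111, 145, 26, 75, 27, 83, 62, 66, 239, 66, 62, 83, 27, 75, 26, 145, 111, 174, 45, 17, 40, 191], 1, 2)]

def zs1 : List (List ℕ × ℕ × ℕ) := [([158, 37, 92, 9, 91, 203, 38, 80, 77, 94, 47, 41, 79, 86, 101, 237, 101, 86, 79, 41, 47, 94, 77, 80, 38, 203, 91, 9, 92, 37, 158], 1, 8)]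

def ds0 : List (List ℕ × ℕ) := [([253, 237, 253, 237, 120, 253, 237, 253, 237, 120], 227),
  ([254, 169, 254, 169, 237, 254, 169, 254, 169, 237, 76, 254, 169, 254, 169, 237, 254, 169, 254, 169, 237, 76], 225),
  ([255, 131, 255, 131, 0, 255, 131, 255, 131, 0, 120, 255, 131, 255, 131, 0, 255, 131, 255, 131, 0, 120], 67),
  ([256, 67, 256, 67, 165, 256, 67, 256, 67, 165, 119, 256, 67, 256, 67, 165, 256, 67, 256, 67, 165, 119], 93),
  ([257, 142, 257, 142, 121, 257, 142, 257, 142, 121, 70, 257, 142, 257, 142, 121, 257, 142, 257, 142, 121, 70], 133)]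

def ds1 : List (List ℕ × ℕ) := [([258, 70, 258, 70, 1, 258, 70, 258, 70, 1, 237, 258, 70, 258, 70, 1, 258, 70, 258, 70, 1, 237], 127)]

def cs0 : List (ℕ × ℕ × ℕ) := [(0, 225, 71), (0, 227, 78), (0, 237, 117), (1, 121, 2), (1, 133, 5), (1, 225, 72), (1, 237, 118), 
  (67, 119, 66), (67, 121, 68), (67, 169, 111), (70, 78, 30), (70, 227, 201), (74, 30, 11), (74, 78, 37), 
  (74, 93, 59), (74, 201, 160), (74, 227, 208), (76, 78, 46), (76, 227, 215), (93, 72, 56), (93, 120, 94), 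
  (93, 142, 110), (93, 160, 138), (93, 208, 185), (93, 215, 194), (93, 225, 219), (119, 160, 159), 
  (119, 201, 200), (119, 208, 207), (119, 215, 214), (119, 227, 226), (120, 59, 60), (120, 121, 122), 
  (120, 133, 134), (120, 219, 220), (121, 11, 12), (121, 30, 31), (121, 37, 38), (121, 46, 47), (121, 56, 57), 
  (121, 60, 61), (121, 72, 73), (121, 78, 79), (121, 94, 95), (121, 111, 112), (121, 127, 128), 
  (121, 138, 139), (121, 160, 161), (121, 185, 186), (121, 194, 195), (121, 201, 202), (121, 208, 209), 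
  (121, 215, 216), (121, 220, 221), (121, 227, 228), (121, 237, 238), (127, 2, 4), (127, 38, 43), 
  (127, 47, 52), (127, 57, 62), (127, 61, 65), (127, 73, 75), (127, 79, 84), (127, 95, 97), (127, 122, 129), 
  (127, 142, 144), (127, 169, 171), (127, 186, 191), (127, 209, 213), (127, 216, 218), (127, 221, 223), 
  (127, 228, 230), (131, 169, 174), (131, 171, 178), (133, 37, 49), (133, 60, 69), (133, 78, 88), 
  (133, 94, 98), (133, 111, 130), (133, 118, 132), (133, 169, 176), (133, 171, 181), (133, 185, 197), 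
  (133, 208, 217), (133, 220, 224), (133, 227, 231), (142, 4, 7), (142, 84, 99), (142, 128, 145), 
  (142, 129, 146), (142, 138, 153), (142, 139, 154), (142, 230, 233), (165, 7, 17), (165, 71, 114), 
  (165, 72, 115), (165, 73, 116), (165, 75, 126), (165, 145, 179), (165, 146, 180), (165, 225, 236), 
  (169, 4, 15), (169, 5, 16), (169, 62, 105), (169, 65, 108), (169, 69, 113), (169, 75, 141), (169, 97, 163), 
  (169, 98, 164), (169, 126, 170), (169, 128, 172), (169, 129, 173), (169, 132, 175), (169, 134, 177), 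
  (169, 223, 234), (169, 224, 235), (225, 17, 143), (225, 30, 156), (225, 31, 157), (225, 78, 204), 
  (225, 79, 205), (225, 84, 210), (227, 2, 80), (227, 4, 85), (227, 5, 89), (227, 7, 100), (227, 57, 184), 
  (227, 61, 187), (227, 62, 188), (227, 65, 192), (227, 68, 196), (227, 69, 198), (227, 73, 206), 
  (227, 75, 211), (227, 139, 232), (227, 161, 239), (237, 61, 222), (0, 187, 21), (0, 192, 23), (0, 196, 26), 
  (0, 198, 27), (0, 206, 36), (0, 211, 40), (1, 139, 6), (1, 154, 9), (1, 157, 10), (1, 161, 13), (1, 181, 18), 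
  (1, 202, 32), (1, 209, 39), (1, 213, 44), (1, 216, 48), (1, 217, 50), (1, 218, 53), (1, 221, 58), 
  (1, 223, 63), (1, 234, 106), (2, 181, 19), (2, 188, 22), (2, 191, 24), (2, 192, 25), (2, 197, 28), 
  (2, 198, 29), (2, 210, 41), (2, 211, 42), (2, 213, 45), (2, 217, 51), (2, 218, 54), (2, 223, 64), 
  (2, 230, 86), (2, 231, 90), (2, 233, 101), (2, 234, 107), (4, 113, 3), (4, 164, 14), (4, 177, 20), 
  (4, 197, 33), (4, 198, 34), (4, 217, 55), (4, 231, 92), (4, 233, 103), (4, 234, 109), (5, 233, 104), 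
  (11, 107, 8), (11, 221, 77), (11, 234, 149), (12, 234, 150), (15, 197, 81), (15, 198, 82), (15, 217, 102), 
  (15, 231, 162), (30, 221, 137), (31, 234, 189), (37, 221, 147), (43, 198, 123), (46, 221, 152), 
  (57, 192, 135), (57, 198, 136), (57, 211, 148), (60, 202, 140), (60, 216, 155), (61, 92, 35), (61, 162, 83), 
  (61, 181, 124), (61, 211, 151), (61, 230, 193), (61, 231, 199), (65, 162, 87), (65, 164, 96), (65, 177, 125), 
  (65, 231, 203), (68, 211, 158), (69, 162, 91), (73, 230, 212), (78, 203, 166), (79, 203, 167), 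
  (80, 203, 168), (80, 223, 190), (85, 217, 182), (108, 231, 229), (121, 182, 183)]

def ls : List (ℕ × ℕ × ℕ × ℕ) := [(0, 1, 0, 1), (1, 0, 3, 7), (1, 2, 0, 0), (1, 8, 0, 0)]

def zs : List (List ℕ × ℕ × ℕ) := zs0 ++ zs1

theorem x1p_ok : eqw 240 T (JC.map Prod.snd) (rep 17 x1) [] = true :=
  eqw_of_L ltab (by decide +kernel)

theorem x2p_ok : eqw 240 T (JC.map Prod.snd) (rep 17 x2) [] = true :=
  eqw_of_L ltab (by decide +kernel)

theorem comm_ok : eqw 240 T (JC.map Prod.snd) (x1 ++ x2) (x2 ++ x1) = true :=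
  eqw_of_L ltab (by decide +kernel)

theorem ls_ok : chkL 240 248 T cb pb x1 x2 ls = true := by decide +kernel

theorem zs0_ok : chkZ 240 T (JC.map Prod.snd) x1 x2 zs0 = true :=
  chkZ_of_L ltab (by decide +kernel)

theorem zs1_ok : chkZ 240 T (JC.map Prod.snd) x1 x2 zs1 = true :=
  chkZ_of_L ltab (by decide +kernel)

theorem ds0_ok : chkD 240 T (JC.map Prod.snd) zs ds0 = true :=
  chkD_of_L ltab (by decide +kernel)

theorem ds1_ok : chkD 240 T (JC.map Prod.snd) zs ds1 = true :=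
  chkD_of_L ltab (by decide +kernel)

theorem cs0_ok : chkC 240 T (JC.map Prod.snd) cs0 = true :=
  chkC_of_L ltab (by decide +kernel)

theorem light_ok : light 240 zs (ds0 ++ ds1) (cs0) ls = true := by decide +kernel

theorem cert : Cert chevE8 hD 17 x1 x2 zs (ds0 ++ ds1) (cs0) ls where
  x1p := eqw_of hD tab nroots_eq mem_codes x1p_ok
  x2p := eqw_of hD tab nroots_eq mem_codes x2p_ok
  comm := eqw_of hD tab nroots_eq mem_codes comm_ok
  ls_ok := chkL_spec hD tab nroots_eq rank_eq ls_ok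
  zs_ok := List.forall_mem_append.2 ⟨chkZ_spec hD tab nroots_eq mem_codes zs0_ok, chkZ_spec hD tab nroots_eq mem_codes zs1_ok⟩
  ds_ok := List.forall_mem_append.2 ⟨chkD_spec hD tab nroots_eq mem_codes ds0_ok, chkD_spec hD tab nroots_eq mem_codes ds1_ok⟩
  cs_ok := chkC_spec hD tab nroots_eq mem_codes cs0_ok
  light_ok := light_ok

/-- **`E_8(2)`, `p = 17`** -/
theorem noSP {F : Type*} [Field F] [Fintype F] (hF : Fintype.card F = 2) : NoSP 17 ↥(chevE8.group F) :=
  haveI : Fact (Nat.Prime 17) := ⟨by norm_num⟩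
  cert.noSP hF

end Cfsg.Agent.H549.RV.E8P17
end
end
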